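import Groth.Agent.HomFibre.Stalk
import Groth.Agent.PerfGen7.FlatOverTensor
import Groth.Agent.KFlatLib.Scheme.TildeAmp
import Groth.Agent.KFlatLib.Scheme.PullTensorCx
import Groth.Agent.QCoh.Tilde
import Groth.Agent.HilbPoly.Stab
import Groth.Agent.InjLocal.Basic
import Mathlib.RingTheory.Filtration

/-!
# A morphism killed by a section is zero when this holds on the closed fibres
-/

set_option linter.style.haveILetI false
set_option linter.unusedSectionVars false
set_option backward.isDefEq.respectTransparency false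
set_option backward.isDefEq.respectTransparency.types false

universe u

open CategoryTheory CategoryTheory.Limits AlgebraicGeometry IsLocalRing TopologicalSpace

attribute [local instance] HasDerivedCategory.standard

noncomputable section

namespace Groth.Agent.HomFibre

open Groth.Agent

lemma pullback_map_comp_eq_zero {X Y Z : Scheme.{u}} (a : X ⟶ Y) (b : Y ⟶ Z) {E F : Z.Modules} (g : E ⟶ F)
    (h : (Scheme.Modules.pullback b).map g = 0) : (Scheme.Modules.pullback (a ≫ b)).map g = 0 := by
  have := (Scheme.Modules.pullbackComp a b).hom.naturality g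
  simp only [Functor.comp_map, h, Functor.map_zero, zero_comp] at this
  exact (cancel_epi ((Scheme.Modules.pullbackComp a b).hom.app E)).1 (this.symm.trans comp_zero.symm)

lemma pullback_map_of_comp_eq_zero {X Y Z : Scheme.{u}} (a : X ⟶ Y) (b : Y ⟶ Z) {E F : Z.Modules} (g : E ⟶ F)
    (h : (Scheme.Modules.pullback (a ≫ b)).map g = 0) :
    (Scheme.Modules.pullback a).map ((Scheme.Modules.pullback b).map g) = 0 := by
  have := (Scheme.Modules.pullbackComp a b).hom.naturality g
  simp only [Functor.comp_map, h, comp_zero] at this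
  exact (cancel_mono ((Scheme.Modules.pullbackComp a b).hom.app F)).1 (this.trans zero_comp.symm)

lemma pullback_map_eq_zero_of_eq {X Y : Scheme.{u}} {a b : X ⟶ Y} (hab : a = b) {E F : Y.Modules} (g : E ⟶ F)
    (h : (Scheme.Modules.pullback a).map g = 0) : (Scheme.Modules.pullback b).map g = 0 := by
  subst hab; exact h

/-- Tensoring a pullback with a sum of projections. -/
lemma eq_zero_of_components {C D : Type*} [Category C] [Preadditive C] [Category D] [Preadditive D] (T : C ⥤ D)
    [T.Additive] {V W : C} {n : ℕ} (p : Fin n → (V ⟶ W)) (ι : Fin n → (W ⟶ V)) (h : ∑ i, p i ≫ ι i = 𝟙 V)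
    {E : D} (ψ : E ⟶ T.obj V) (hψ : ∀ i, ψ ≫ T.map (p i) = 0) : ψ = 0 := by
  rw [← Category.comp_id ψ, ← T.map_id, ← h, Functor.map_sum, Preadditive.comp_sum]
  exact Finset.sum_eq_zero fun i _ => by rw [Functor.map_comp, ← Category.assoc, hψ, zero_comp]

variable {A : Type u} [CommRing A] {X : Scheme.{u}} [X.Over (Spec (CommRingCat.of A))]

local notation "π" => (X ↘ Spec (CommRingCat.of A))

variable {F : X.Modules}

/-- Pullback along a section of a base tensor is a base tensor. -/
lemma preservesMonomorphisms_section (ξ : Spec (CommRingCat.of A) ⟶ X) (hξ : ξ ≫ π = 𝟙 _)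
    (hflat : FlatMod.IsFlat ((Scheme.Modules.pullback ξ).obj F)) :
    (CohIII.tensorAFunctor A F ⋙ Scheme.Modules.pullback ξ).PreservesMonomorphisms := by
  haveI := QCoh.tilde_preservesFiniteLimits (R := CommRingCat.of A)
  let G := (Scheme.Modules.pullback ξ).obj F
  have hG : FlatMod.IsFlatOver (ξ ≫ π) G := by rw [hξ]; exact (KFlatLib.isFlatOver_id_iff _).2 hflat
  haveI := PerfGen7.preservesHomology_pullTensor (ξ ≫ π) hG
  haveI : (PerfGen7.pullTensor (ξ ≫ π) G).Additive := inferInstance
  haveI : PreservesFiniteLimits (PerfGen7.pullTensor (ξ ≫ π) G) :=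
    Functor.preservesFiniteLimits_of_preservesHomology _
  let e1 : DCoh.tensorRightMod F ⋙ Scheme.Modules.pullback ξ ≅
      Scheme.Modules.pullback ξ ⋙ DCoh.tensorRightMod G :=
    NatIso.ofComponents (fun M => ((KFlatLib.pullTensorBiIso ξ).app M).app F)
      (fun {M N} g => congr_app ((KFlatLib.pullTensorBiIso ξ).hom.naturality g) F)
  let e : CohIII.tensorAFunctor A F ⋙ Scheme.Modules.pullback ξ ≅
      tilde.functor (CommRingCat.of A) ⋙ PerfGen7.pullTensor (ξ ≫ π) G :=
    Functor.associator _ _ _ ≪≫ Functor.isoWhiskerLeft _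
      (Functor.associator _ _ _ ≪≫ Functor.isoWhiskerLeft _ e1 ≪≫ (Functor.associator _ _ _).symm ≪≫
        Functor.isoWhiskerRight (Scheme.Modules.pullbackComp ξ π) _)
  exact Functor.preservesMonomorphisms.of_iso e.symm

variable (k : Type u) [Field k]

/-- The base change to a closed point with residue field `k`. -/
abbrev pt (ψ : A →+* k) : Spec (CommRingCat.of k) ⟶ Spec (CommRingCat.of A) :=
  Spec.map (CommRingCat.ofHom ψ)

/-- The condition on the fibres. -/
def FibreCond (E F : X.Modules) (ξ : Spec (CommRingCat.of A) ⟶ X) (hξ : ξ ≫ π = 𝟙 _) : Prop :=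
  ∀ (ψ : A →+* k), Function.Surjective ψ →
    ∀ g : (Scheme.Modules.pullback (pullback.fst π (pt k ψ))).obj E ⟶
        (Scheme.Modules.pullback (pullback.fst π (pt k ψ))).obj F,
      (Scheme.Modules.pullback (pullback.lift (f := π) (g := pt k ψ) (pt k ψ ≫ ξ) (𝟙 _)
        (by rw [Category.assoc, hξ, Category.comp_id, Category.id_comp]))).map g = 0 → g = 0

lemma pt_apply (ψ : A →+* k) (hψ : Function.Surjective ψ) (p : Spec (CommRingCat.of k)) :
    ((pt k ψ) p).asIdeal = RingHom.ker ψ := by
  haveI : p.asIdeal.IsPrime := p.2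
  have hp : p.asIdeal = ⊥ := (Ideal.eq_bot_or_top p.asIdeal).resolve_right p.2.ne_top
  show Ideal.comap ψ p.asIdeal = _
  rw [hp]; rfl

/-- Vanishing into the reduction at a closed point. -/
theorem eq_zero_to_residue (hF : Coh.IsCoh F) {E : X.Modules} (ξ : Spec (CommRingCat.of A) ⟶ X)
    (hξ : ξ ≫ π = 𝟙 _) (hfib : FibreCond k E F ξ hξ) (ψ : A →+* k) (hψ : Function.Surjective ψ)
    (g : E ⟶ (CohIII.tensorAFunctor A F).obj (ModuleCat.of A (A ⧸ RingHom.ker ψ)))
    (hg : (Scheme.Modules.pullback ξ).map g = 0) : g = 0 := by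
  haveI hmax : (RingHom.ker ψ).IsMaximal := RingHom.ker_isMaximal_of_surjective ψ hψ
  haveI : IsClosedImmersion (pt k ψ) := IsClosedImmersion.spec_of_surjective _ hψ
  let P := pullback π (pt k ψ)
  let fs : P ⟶ X := pullback.fst π (pt k ψ)
  -- points over the closed point
  have hker : ∀ z : P, RingHom.ker (Scheme.Hom.stalkMap fs z).hom = Ideal.map (θ (fs z)) (RingHom.ker ψ) := fun z => by
    have h2 : (π (fs z)).asIdeal = (RingHom.ker ψ) := by
      rw [H23.GysinPb.apply_fst_eq π (pt k ψ) z, pt_apply k ψ hψ]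
    rw [← h2, map_θ, H23.GysinPb.ker_stalkMap_fst, HomVanish.ker_stalkMap_field, H23.GysinPb.baseMap,
      CommRingCat.hom_comp, ← Ideal.map_map,
      HomVanish.map_maximalIdeal_stalkSpecializes (H23.GysinPb.apply_fst_eq π (pt k ψ) z)]
  -- the reduction is invertible on the fibre
  haveI := epi_quotHom hF.1 (RingHom.ker ψ)
  haveI hiso : IsIso ((Scheme.Modules.pullback fs).map (QCoh.quotHom F (RingHom.ker ψ))) := by
    refine KFlatLib.isIso_of_stalk _ fun z => ?_
    refine (NatIso.isIso_map_iff (KFlatLib.stalkPullbackIso fs z) (QCoh.quotHom F (RingHom.ker ψ))).2 ?_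
    refine isIso_extendScalars_map _ _ fun v hv => ?_
    rw [hker]
    exact mem_of_quotHom_eq_zero hF.1 (RingHom.ker ψ) (fs z) v hv
  let g' : (Scheme.Modules.pullback fs).obj E ⟶ (Scheme.Modules.pullback fs).obj F :=
    (Scheme.Modules.pullback fs).map g ≫ inv ((Scheme.Modules.pullback fs).map (QCoh.quotHom F (RingHom.ker ψ)))
  have hg' : g' = 0 := by
    refine hfib ψ hψ g' ?_
    rw [Functor.map_comp]
    refine (congrArg (· ≫ _) ?_).trans zero_comp
    refine pullback_map_of_comp_eq_zero _ _ g ?_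
    refine pullback_map_eq_zero_of_eq (pullback.lift_fst _ _ _).symm g ?_
    exact pullback_map_comp_eq_zero _ _ g hg
  have hfs : (Scheme.Modules.pullback fs).map g = 0 := by
    have := congrArg (· ≫ (Scheme.Modules.pullback fs).map (QCoh.quotHom F (RingHom.ker ψ))) hg'
    simp only [g', Category.assoc, IsIso.inv_hom_id, Category.comp_id, zero_comp] at this
    exact this
  refine InjLocal.eq_zero_of_stalk g fun y => ModuleCat.hom_ext (LinearMap.ext fun e => ?_)
  show (DerSch.stalkFunctor X y).map g e = 0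
  by_cases hy : (π y).asIdeal = (RingHom.ker ψ)
  · have hp : π y = (pt k ψ) default := PrimeSpectrum.ext (hy.trans (pt_apply k ψ hψ _).symm)
    obtain ⟨z, rfl, -⟩ := Scheme.Pullback.exists_preimage_pullback y default hp
    refine eq_zero_of_mem_smul hF.1 (fs z) _ ?_
    rw [← hker]
    refine mem_ker_smul_of_extendScalars_eq_zero _ (fs.stalkMap_surjective z) _ ?_ e
    have h := (KFlatLib.stalkPullbackIso fs z).hom.naturality g
    simp only [Functor.comp_map, hfs, Functor.map_zero, zero_comp] at h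
    exact (cancel_epi ((KFlatLib.stalkPullbackIso fs z).hom.app E)).1 (h.symm.trans comp_zero.symm)
  · obtain ⟨a, ham, ha⟩ : ∃ a ∈ (RingHom.ker ψ), a ∉ (π y).asIdeal := by
      by_contra hcon
      push Not at hcon
      exact hy (hmax.eq_of_le (π y).2.ne_top hcon).symm
    exact (isUnit_θ y ha).smul_eq_zero.1 (smul_stalk_quot_eq_zero hF.1 ham y _)

/-- The reductions modulo powers. -/
theorem comp_quotHom_eq_zero [IsNoetherianRing A] (hF : Coh.IsCoh F) (hfl : FlatMod.IsFlatOver π F)
    {E : X.Modules} (ξ : Spec (CommRingCat.of A) ⟶ X) (hξ : ξ ≫ π = 𝟙 _)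
    (hflat : FlatMod.IsFlat ((Scheme.Modules.pullback ξ).obj F))
    (hfib : FibreCond k E F ξ hξ) (φ : E ⟶ F) (hφ : (Scheme.Modules.pullback ξ).map φ = 0)
    (ψ : A →+* k) (hψ : Function.Surjective ψ) :
    ∀ j : ℕ, φ ≫ QCoh.quotHom F (RingHom.ker ψ ^ j) = 0 := by
  set m := RingHom.ker ψ with hm
  haveI hmax : m.IsMaximal := RingHom.ker_isMaximal_of_surjective ψ hψ
  letI : Field (A ⧸ m) := Ideal.Quotient.field m
  haveI := QCoh.tilde_preservesFiniteLimits (R := CommRingCat.of A)
  let T := CohIII.tensorAFunctor A F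
  haveI := PerfGen7.preservesHomology_pullTensor π hfl
  haveI : PreservesFiniteLimits (PerfGen7.pullTensor π F) :=
    Functor.preservesFiniteLimits_of_preservesHomology _
  haveI : PreservesFiniteLimits T :=
    inferInstanceAs (PreservesFiniteLimits (tilde.functor (CommRingCat.of A) ⋙ PerfGen7.pullTensor π F))
  haveI : T.Additive := Functor.additive_of_preserves_binary_products _
  haveI := preservesMonomorphisms_section ξ hξ hflat
  intro j
  induction j with
  | zero =>
    haveI : Subsingleton (A ⧸ m ^ 0) := by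
      rw [Ideal.Quotient.subsingleton_iff, pow_zero, Ideal.one_eq_top]
    exact (T.map_isZero (ModuleCat.isZero_of_subsingleton (ModuleCat.of A (A ⧸ m ^ 0)))).eq_of_tgt _ _
  | succ j ih =>
    let fac : (A ⧸ m ^ (j + 1)) →ₗ[A] A ⧸ m ^ j :=
      Submodule.factor (Ideal.pow_le_pow_right (Nat.le_succ j))
    let fac' : ModuleCat.of A (A ⧸ m ^ (j + 1)) ⟶ ModuleCat.of A (A ⧸ m ^ j) := ModuleCat.ofHom fac
    let V : Submodule A (A ⧸ m ^ (j + 1)) := LinearMap.ker fac
    let S : ShortComplex (ModuleCat.{u} A) := ShortComplex.mk (ModuleCat.ofHom V.subtype) fac'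
      (ModuleCat.hom_ext (LinearMap.ext fun v => v.2))
    have hS : S.Exact := (ShortComplex.moduleCat_exact_iff _).2 fun v hv => ⟨⟨v, hv⟩, rfl⟩
    haveI : Mono S.f := (ModuleCat.mono_iff_injective _).2 Subtype.val_injective
    have h13 := (Functor.preservesFiniteLimits_tfae T).out 3 1
    have hTS : (S.map T).Exact ∧ Mono (S.map T).f :=
      h13.1 (inferInstanceAs (PreservesFiniteLimits T)) S ⟨hS, inferInstance⟩
    obtain ⟨hTe, hTm⟩ := hTS
    haveI := hTm
    have hw : (φ ≫ QCoh.quotHom F (m ^ (j + 1))) ≫ (S.map T).g = 0 := by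
      show (φ ≫ QCoh.quotHom F (m ^ (j + 1))) ≫ T.map fac' = 0
      rw [Category.assoc, QCoh.homOfElem_naturality]
      exact ih
    let w : E ⟶ T.obj S.X₁ := hTe.lift _ hw
    have hwf : w ≫ T.map S.f = φ ≫ QCoh.quotHom F (m ^ (j + 1)) := hTe.lift_f _ hw
    have hξw : (Scheme.Modules.pullback ξ).map w = 0 := by
      refine (cancel_mono ((CohIII.tensorAFunctor A F ⋙ Scheme.Modules.pullback ξ).map S.f)).1 ?_
      rw [zero_comp, Functor.comp_map, ← Functor.map_comp, hwf, Functor.map_comp, hφ, zero_comp]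
    -- the kernel is a vector space over the residue field
    have htor : Module.IsTorsionBySet A V (m : Set A) := by
      rintro ⟨v, hv⟩ ⟨a, ha⟩
      obtain ⟨b, rfl⟩ := Ideal.Quotient.mk_surjective v
      have hb : b ∈ m ^ j := Ideal.Quotient.eq_zero_iff_mem.1 hv
      refine Subtype.ext ?_
      show Ideal.Quotient.mk (m ^ (j + 1)) (a * b) = 0
      rw [Ideal.Quotient.eq_zero_iff_mem, pow_succ']
      exact Ideal.mul_mem_mul ha hb
    letI : Module (A ⧸ m) V := htor.module
    haveI : IsScalarTower A (A ⧸ m) V := htor.isScalarTower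
    haveI : Module.Finite (A ⧸ m) V := Module.Finite.of_restrictScalars_finite A _ _
    let b := Module.finBasis (A ⧸ m) V
    let p : Fin (Module.finrank (A ⧸ m) V) → (S.X₁ ⟶ ModuleCat.of A (A ⧸ m)) := fun i =>
      ModuleCat.ofHom ((b.coord i).restrictScalars A)
    let ι : Fin (Module.finrank (A ⧸ m) V) → (ModuleCat.of A (A ⧸ m) ⟶ S.X₁) := fun i =>
      ModuleCat.ofHom ((LinearMap.toSpanSingleton (A ⧸ m) V (b i)).restrictScalars A)
    have hsum : ∑ i, p i ≫ ι i = 𝟙 S.X₁ := by
      refine ModuleCat.hom_ext (LinearMap.ext fun v => ?_)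
      rw [ModuleCat.hom_sum, LinearMap.sum_apply]
      exact b.sum_repr v
    have hzero : w = 0 := eq_zero_of_components T p ι hsum w fun i =>
      eq_zero_to_residue k hF ξ hξ hfib ψ hψ (w ≫ T.map (p i)) (by rw [Functor.map_comp, hξw, zero_comp])
    rw [← hwf, hzero, zero_comp]

/-- A morphism killed by the section is zero. -/
theorem eq_zero_of_fibrewise [IsNoetherianRing A] [IsProper π] (hF : Coh.IsCoh F)
    (hfl : FlatMod.IsFlatOver π F) {E : X.Modules} (hE : Coh.IsCoh E)
    (ξ : Spec (CommRingCat.of A) ⟶ X) (hξ : ξ ≫ π = 𝟙 _)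
    (hflat : FlatMod.IsFlat ((Scheme.Modules.pullback ξ).obj F))
    (hpts : ∀ m : Ideal A, m.IsMaximal → ∃ ψ : A →+* k, Function.Surjective ψ ∧ RingHom.ker ψ = m)
    (hfib : FibreCond k E F ξ hξ) (φ : E ⟶ F) (hφ : (Scheme.Modules.pullback ξ).map φ = 0) : φ = 0 := by
  haveI : IsNoetherianRing (CommRingCat.of A) := inferInstanceAs (IsNoetherianRing A)
  haveI : IsLocallyNoetherian X := LocallyOfFiniteType.isLocallyNoetherian π
  haveI : CompactSpace X := QuasiCompact.compactSpace_of_compactSpace π
  haveI : IsNoetherian X := {}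
  -- zero at closed points
  have hcl : ∀ y : X, IsClosed ({y} : Set X) → ∀ e, (DerSch.stalkFunctor X y).map φ e = 0 := by
    intro y hy e
    have hmax : (π y).asIdeal.IsMaximal := by
      refine (PrimeSpectrum.isClosed_singleton_iff_isMaximal _).1 ?_
      simpa using (Scheme.Hom.isClosedMap π) _ hy
    obtain ⟨ψ, hψ, hk⟩ := hpts _ hmax
    haveI : Module.Finite (X.presheaf.stalk y) ((DerSch.stalkFunctor X y).obj F) :=
      QCoh.finite_stalk_of_isFT hF.1 hF.2 y
    have hne : Ideal.map (θ y) (π y).asIdeal ≠ ⊤ := fun h =>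
      (maximalIdeal.isMaximal _).ne_top (top_le_iff.1 (h ▸ map_θ_le y))
    have hbot := Ideal.iInf_pow_smul_eq_bot_of_isLocalRing (M := (DerSch.stalkFunctor X y).obj F) _ hne
    have : (DerSch.stalkFunctor X y).map φ e ∈
        ⨅ j : ℕ, Ideal.map (θ y) (π y).asIdeal ^ j • (⊤ : Submodule (X.presheaf.stalk y) _) := by
      refine Submodule.mem_iInf _ |>.2 fun j => ?_
      rw [← Ideal.map_pow]
      refine mem_of_quotHom_eq_zero hF.1 _ y _ ?_
      have h := comp_quotHom_eq_zero k hF hfl ξ hξ hflat hfib φ hφ ψ hψ j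
      rw [hk] at h
      rw [← ModuleCat.comp_apply, ← Functor.map_comp, h, Functor.map_zero]
      rfl
    rw [hbot] at this
    exact (Submodule.mem_bot _).1 this
  -- the image has empty support
  have hI : Coh.IsCoh (Abelian.coimage φ) :=
    QCoh.isCoh_cokernel (QCoh.isCoh_kernel hE hF φ).1 hE _
  have hemp : CohB1.support (Abelian.coimage φ) = ∅ := by
    by_contra hne
    obtain ⟨y, hy, hyc⟩ := (QCoh.isClosed_support_of_isFT hI.1 hI.2).exists_closed_singleton
      (Set.nonempty_iff_ne_empty.2 hne)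
    refine hy ?_
    refine (subsingleton_iff_forall_eq (0 : (DerSch.stalkFunctor X y).obj (Abelian.coimage φ))).2 fun c => ?_
    obtain ⟨e, rfl⟩ := (ModuleCat.epi_iff_surjective
      ((DerSch.stalkFunctor X y).map (Abelian.coimage.π φ))).1 inferInstance c
    apply (ModuleCat.mono_iff_injective ((DerSch.stalkFunctor X y).map (Abelian.factorThruCoimage φ))).1 inferInstance
    rw [map_zero, ← ModuleCat.comp_apply, ← Functor.map_comp, Abelian.coimage.fac]
    exact hcl y hyc e
  have hz : IsZero (Abelian.coimage φ) := CurveCohLib.isZero_of_subsingleton_stalks fun x => by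
    by_contra hx
    exact Set.eq_empty_iff_forall_notMem.1 hemp x hx
  rw [← Abelian.coimage.fac φ, hz.eq_of_src (Abelian.factorThruCoimage φ) 0, comp_zero]

end Groth.Agent.HomFibre
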