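import Groth.Agent.HomFibre.Main
import Groth.Agent.CohPullLib.BaseChange
import Groth.Agent.ZClosLib.CohDescent
import Groth.Agent.GrpSchLib.ReducedPoints
import Mathlib.RingTheory.Jacobson.Ring
import Mathlib.Analysis.Complex.Polynomial.Basic

/-!
# From an affine open of the base to the base
-/

set_option linter.style.haveILetI false
set_option linter.unusedSectionVars false
set_option backward.isDefEq.respectTransparency false
set_option backward.isDefEq.respectTransparency.types false

universe u

open CategoryTheory CategoryTheory.Limits AlgebraicGeometry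

noncomputable section

namespace Groth.Agent.HomFibre

open Groth.Agent

/-- Rational points at the closed points of a scheme of finite type over an algebraically closed field. -/
theorem exists_rational_point {K : Type u} [Field K] [IsAlgClosed K] {S : Scheme.{u}}
    (sS : S ⟶ Spec (CommRingCat.of K)) [LocallyOfFiniteType sS] {s : S} (hs : IsClosed ({s} : Set S)) :
    ∃ t : Spec (CommRingCat.of K) ⟶ S, t ≫ sS = 𝟙 _ ∧ t (IsLocalRing.closedPoint K) = s := by
  haveI : LocallyOfFiniteType (Over.mk sS).hom := inferInstanceAs (LocallyOfFiniteType sS)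
  obtain ⟨t, ht⟩ := GrpSchLib.exists_point_of_isClosed (k := K) (K := K) (Over.mk sS) hs
  refine ⟨t.left, ?_, ht⟩
  have h : t.left ≫ sS = Spec.map (CommRingCat.ofHom (algebraMap K K)) := Over.w t
  rw [h, Algebra.algebraMap_self]
  exact Spec.map_id _

/-- The residue fields at maximal ideals of a finitely generated algebra over an algebraically closed field. -/
theorem exists_residue {K : Type u} [Field K] [IsAlgClosed K] {A : Type u} [CommRing A] (c : K →+* A)
    (hc : c.FiniteType) (m : Ideal A) (hm : m.IsMaximal) :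
    ∃ ψ : A →+* K, Function.Surjective ψ ∧ RingHom.ker ψ = m ∧ ψ.comp c = RingHom.id K := by
  letI := c.toAlgebra
  haveI : Algebra.FiniteType K A := hc
  letI : Field (A ⧸ m) := Ideal.Quotient.field m
  haveI : Algebra.FiniteType K (A ⧸ m) := Algebra.FiniteType.of_surjective (Ideal.Quotient.mkₐ K m) Ideal.Quotient.mk_surjective
  haveI := finite_of_finite_type_of_isJacobsonRing K (A ⧸ m)
  let e := RingEquiv.ofBijective (algebraMap K (A ⧸ m)) IsAlgClosed.algebraMap_bijective_of_isIntegral
  refine ⟨e.symm.toRingHom.comp (Ideal.Quotient.mk m), e.symm.surjective.comp Ideal.Quotient.mk_surjective, ?_, ?_⟩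
  · rw [RingHom.ker_equiv_comp, Ideal.mk_ker]
  · refine RingHom.ext fun r => ?_
    exact e.symm_apply_apply r

variable {X S : Scheme.{u}} (f : X ⟶ S) (ξ : S ⟶ X) (hξ : ξ ≫ f = 𝟙 S)

/-- The section over a point. -/
abbrev secP {T : Scheme.{u}} (t : T ⟶ S) : T ⟶ pullback f t :=
  pullback.lift (t ≫ ξ) (𝟙 T) (by rw [Category.assoc, hξ, Category.comp_id, Category.id_comp])

/-- A morphism killed by the section is zero, when this holds on the closed fibres. -/
theorem eq_zero_of_closed_fibres {K : Type u} [Field K] [IsAlgClosed K] (sS : S ⟶ Spec (CommRingCat.of K))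
    [LocallyOfFiniteType sS] [IsProper f] {E F : X.Modules} (hE : Coh.IsCoh E) (hF : Coh.IsCoh F)
    (hfl : FlatMod.IsFlatOver f F)
    (hflat : FlatMod.IsFlat ((Scheme.Modules.pullback ξ).obj F))
    (hfib : ∀ t : Spec (CommRingCat.of K) ⟶ S, t ≫ sS = 𝟙 _ →
      ∀ g : (Scheme.Modules.pullback (pullback.fst f t)).obj E ⟶ (Scheme.Modules.pullback (pullback.fst f t)).obj F,
        (Scheme.Modules.pullback (secP f ξ hξ t)).map g = 0 → g = 0)
    (φ : E ⟶ F) (hφ : (Scheme.Modules.pullback ξ).map φ = 0) : φ = 0 := by
  haveI : IsLocallyNoetherian S := LocallyOfFiniteType.isLocallyNoetherian sS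
  refine InjLocal.eq_zero_of_stalk φ fun x => ?_
  obtain ⟨U, hU, hxU, -⟩ := exists_isAffineOpen_mem_and_subset (x := f x) (U := ⊤) trivial
  let A := Γ(S, U)
  let V : Spec A ⟶ S := hU.fromSpec
  haveI : IsNoetherianRing A := IsLocallyNoetherian.component_noetherian ⟨U, hU⟩
  let X' := pullback f V
  let p : X' ⟶ X := pullback.fst f V
  letI : X'.Over (Spec (CommRingCat.of A)) := ⟨pullback.snd f V⟩
  haveI : IsProper (X' ↘ Spec (CommRingCat.of A)) := inferInstanceAs (IsProper (pullback.snd f V))
  let ξ' : Spec (CommRingCat.of A) ⟶ X' := secP f ξ hξ V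
  have hξ' : ξ' ≫ (X' ↘ Spec (CommRingCat.of A)) = 𝟙 _ := pullback.lift_snd _ _ _
  have hξp : ξ' ≫ p = V ≫ ξ := pullback.lift_fst _ _ _
  let F' := (Scheme.Modules.pullback p).obj F
  let E' := (Scheme.Modules.pullback p).obj E
  have hfl' : FlatMod.IsFlatOver (X' ↘ Spec (CommRingCat.of A)) F' :=
    CohPullLib.isFlatOver_baseChange (IsPullback.of_hasPullback f V) hfl
  have hflat' : FlatMod.IsFlat ((Scheme.Modules.pullback ξ').obj F') := by
    have hG : FlatMod.IsFlat ((Scheme.Modules.pullback V).obj ((Scheme.Modules.pullback ξ).obj F)) :=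
      fun y => by
        haveI : Module.Flat (S.presheaf.stalk (V y)) (((Scheme.Modules.pullback ξ).obj F).presheaf.stalk (V y)) :=
          hflat (V y)
        letI : Algebra (S.presheaf.stalk (V y)) ((Spec A).presheaf.stalk y) := (V.stalkMap y).hom.toAlgebra
        obtain ⟨e⟩ := QCoh.nonempty_pullStalkEquiv V (QCoh.isQCoh_pullback ξ hF.1) y
        haveI : Module.Flat ((Spec A).presheaf.stalk y) (TensorProduct (S.presheaf.stalk (V y))
            ((Spec A).presheaf.stalk y) (((Scheme.Modules.pullback ξ).obj F).presheaf.stalk (V y))) :=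
          Module.Flat.baseChange _ _ _
        exact Module.Flat.of_linearEquiv e
    exact KFlatLib.isFlat_of_iso' ((Scheme.Modules.pullbackComp V ξ ≪≫
      Scheme.Modules.pullbackCongr hξp.symm ≪≫ (Scheme.Modules.pullbackComp ξ' p).symm).app F) hG
  -- the structure map of the coordinate ring
  let c : CommRingCat.of K ⟶ A := Spec.preimage (V ≫ sS)
  have hc : Spec.map c = V ≫ sS := Spec.map_preimage _
  have hcfin : c.hom.FiniteType := by
    haveI : LocallyOfFiniteType (Spec.map c) := by rw [hc]; infer_instance
    exact (HasRingHomProperty.Spec_iff (P := @LocallyOfFiniteType)).1 ‹_›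
  have hpts : ∀ m : Ideal A, m.IsMaximal → ∃ ψ : A →+* K, Function.Surjective ψ ∧ RingHom.ker ψ = m :=
    fun m hm => by
      obtain ⟨ψ, h1, h2, -⟩ := exists_residue c.hom hcfin m hm
      exact ⟨ψ, h1, h2⟩
  -- the fibres
  have hfib' : FibreCond K E' F' ξ' hξ' := by
    intro ψ hψ g hg
    haveI hmax : (RingHom.ker ψ).IsMaximal := RingHom.ker_isMaximal_of_surjective ψ hψ
    obtain ⟨ψ', hψ', hk, hc'⟩ := exists_residue c.hom hcfin _ hmax
    -- `ψ` differs from a `K`-point by an automorphism of `K`
    let σ : K →+* K := ψ.comp c.hom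
    have hσψ : ψ = σ.comp ψ' := RingHom.ext fun a => by
      have h : a - c.hom (ψ' a) ∈ RingHom.ker ψ := by
        rw [← hk, RingHom.mem_ker, map_sub]
        exact sub_eq_zero.2 (RingHom.congr_fun hc' _).symm
      rw [RingHom.mem_ker, map_sub, sub_eq_zero] at h
      exact h
    have hσ : Function.Bijective σ := ⟨σ.injective, fun y => by
      obtain ⟨a, rfl⟩ := hψ y
      exact ⟨ψ' a, (RingHom.congr_fun hσψ a).symm⟩⟩
    haveI : IsIso (CommRingCat.ofHom σ) := (ConcreteCategory.isIso_iff_bijective _).2 hσ
    let τ : Spec (CommRingCat.of K) ⟶ Spec (CommRingCat.of K) := Spec.map (CommRingCat.ofHom σ)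
    haveI : IsIso τ := inferInstance
    let t : Spec (CommRingCat.of K) ⟶ S := pt K ψ' ≫ V
    have ht : t ≫ sS = 𝟙 _ := by
      rw [Category.assoc, ← hc, ← Spec.map_comp, ← Spec.map_id]
      exact congrArg Spec.map (CommRingCat.hom_ext hc')
    have hpt : pt K ψ = τ ≫ pt K ψ' := by
      rw [← Spec.map_comp]
      exact congrArg Spec.map (CommRingCat.hom_ext hσψ)
    let π' := (X' ↘ Spec (CommRingCat.of A))
    let q : pullback π' (pt K ψ) ⟶ pullback f t :=
      pullback.lift (pullback.fst π' (pt K ψ) ≫ p) (pullback.snd π' (pt K ψ) ≫ τ) (by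
        rw [Category.assoc, Category.assoc, show τ ≫ t = pt K ψ ≫ V from by rw [hpt, Category.assoc],
          pullback.condition, ← reassoc_of% pullback.condition (f := π') (g := pt K ψ)]
        rfl)
    let qi : pullback f t ⟶ pullback π' (pt K ψ) :=
      pullback.lift (pullback.lift (pullback.fst f t) (pullback.snd f t ≫ pt K ψ')
        (by rw [Category.assoc, pullback.condition])) (pullback.snd f t ≫ inv τ) (by
        show pullback.lift _ _ _ ≫ pullback.snd f V = _
        rw [pullback.lift_snd, Category.assoc, hpt, IsIso.inv_hom_id_assoc])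
    have h1 : qi ≫ q = 𝟙 _ := by
      refine pullback.hom_ext ?_ ?_
      · rw [Category.assoc, pullback.lift_fst, ← Category.assoc, pullback.lift_fst, Category.id_comp]
        exact pullback.lift_fst _ _ _
      · rw [Category.assoc, pullback.lift_snd, ← Category.assoc, pullback.lift_snd, Category.id_comp,
          Category.assoc, IsIso.inv_hom_id, Category.comp_id]
    have h2 : q ≫ qi = 𝟙 _ := by
      refine pullback.hom_ext (pullback.hom_ext ?_ ?_) ?_
      · simp only [qi, q, Category.assoc, pullback.lift_fst, Category.id_comp]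
        rfl
      · simp only [qi, q, Category.assoc, pullback.lift_fst, Category.id_comp]
        rw [pullback.lift_snd, pullback.lift_snd_assoc, Category.assoc, ← hpt]
        exact (pullback.condition (f := π') (g := pt K ψ)).symm
      · simp only [qi, q, Category.assoc, pullback.lift_snd, Category.id_comp]
        rw [pullback.lift_snd_assoc, Category.assoc, IsIso.hom_inv_id, Category.comp_id]
    have hqf : q ≫ pullback.fst f t = pullback.fst π' (pt K ψ) ≫ p := pullback.lift_fst _ _ _
    let κ := Scheme.Modules.pullbackComp (pullback.fst π' (pt K ψ)) p ≪≫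
      Scheme.Modules.pullbackCongr hqf.symm ≪≫ (Scheme.Modules.pullbackComp q (pullback.fst f t)).symm
    let lam := Scheme.Modules.pullbackComp qi q ≪≫ Scheme.Modules.pullbackCongr h1 ≪≫
      Scheme.Modules.pullbackId (pullback f t)
    let h := (κ.app E).inv ≫ g ≫ (κ.app F).hom
    let g' := (lam.app _).inv ≫ (Scheme.Modules.pullback qi).map h ≫ (lam.app _).hom
    let sec := pullback.lift (f := π') (g := pt K ψ) (pt K ψ ≫ ξ') (𝟙 _)
      (by rw [Category.assoc, hξ', Category.comp_id, Category.id_comp])
    have hsec : sec ≫ q = τ ≫ secP f ξ hξ t := by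
      refine pullback.hom_ext ?_ ?_
      · rw [Category.assoc, pullback.lift_fst, ← Category.assoc, pullback.lift_fst, Category.assoc, hξp,
          Category.assoc, pullback.lift_fst, hpt, Category.assoc, Category.assoc]
      · rw [Category.assoc, pullback.lift_snd, ← Category.assoc, pullback.lift_snd, Category.id_comp,
          Category.assoc, pullback.lift_snd, Category.comp_id]
    have hsec' : secP f ξ hξ t ≫ qi = inv τ ≫ sec := by
      rw [← cancel_epi τ, IsIso.hom_inv_id_assoc, ← Category.assoc, ← hsec, Category.assoc, h2, Category.comp_id]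
    have hh : (Scheme.Modules.pullback sec).map h = 0 := by
      simp only [h, Functor.map_comp]
      rw [show (Scheme.Modules.pullback sec).map g = 0 from hg, zero_comp, comp_zero]
    have hg' : g' = 0 := by
      refine hfib t ht g' ?_
      simp only [g', Functor.map_comp]
      rw [show (Scheme.Modules.pullback (secP f ξ hξ t)).map ((Scheme.Modules.pullback qi).map h) = 0 from
        pullback_map_of_comp_eq_zero _ _ _ (pullback_map_eq_zero_of_eq hsec'.symm _
          (pullback_map_comp_eq_zero _ _ _ hh)), zero_comp, comp_zero]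
    have hqi : (Scheme.Modules.pullback qi).map h = 0 := by
      have h' : (lam.app _).inv ≫ (Scheme.Modules.pullback qi).map h ≫ (lam.app _).hom = 0 := hg'
      have h'' := congrArg (fun z => (lam.app _).hom ≫ z ≫ (lam.app _).inv) h'
      simpa only [Category.assoc, Iso.hom_inv_id_assoc, Iso.hom_inv_id, Category.comp_id, zero_comp,
        comp_zero] using h''
    have hh0 : h = 0 := by
      have h3 := pullback_map_eq_zero_of_eq h2 _ (pullback_map_comp_eq_zero q qi h hqi)
      have hn := (Scheme.Modules.pullbackId (pullback π' (pt K ψ))).hom.naturality h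
      rw [h3, zero_comp] at hn
      exact (cancel_epi ((Scheme.Modules.pullbackId (pullback π' (pt K ψ))).hom.app _)).1
        (hn.symm.trans comp_zero.symm)
    have h'' := congrArg (fun z => (κ.app E).hom ≫ z ≫ (κ.app F).inv) hh0
    simpa only [h, Category.assoc, Iso.hom_inv_id_assoc, Iso.hom_inv_id, Category.comp_id, zero_comp,
      comp_zero] using h''
  have hzero : (Scheme.Modules.pullback p).map φ = 0 :=
    eq_zero_of_fibrewise (A := A) K (ZClosLib.isCoh_pullback p hF) hfl' (ZClosLib.isCoh_pullback p hE) ξ' hξ'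
      hflat' hpts hfib' _ (pullback_map_of_comp_eq_zero _ _ _ (pullback_map_eq_zero_of_eq hξp.symm _
        (pullback_map_comp_eq_zero _ _ _ hφ)))
  have hxV : f x ∈ Set.range V := by rw [hU.range_fromSpec]; exact hxU
  obtain ⟨y, hy⟩ := hxV
  obtain ⟨z, rfl, -⟩ := Scheme.Pullback.exists_preimage_pullback x y hy.symm
  refine ModuleCat.hom_ext (LinearMap.ext fun e => ?_)
  have h := mem_ker_smul_of_extendScalars_eq_zero (p.stalkMap z).hom (p.stalkMap_surjective z)
    ((DerSch.stalkFunctor X (p z)).map φ) (by
      have hn := (KFlatLib.stalkPullbackIso p z).hom.naturality φ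
      simp only [Functor.comp_map, hzero, Functor.map_zero, zero_comp] at hn
      exact (cancel_epi ((KFlatLib.stalkPullbackIso p z).hom.app E)).1 (hn.symm.trans comp_zero.symm)) e
  have hbot : RingHom.ker (p.stalkMap z).hom = ⊥ := by
    rw [← RingHom.injective_iff_ker_eq_bot]
    exact (ConcreteCategory.bijective_of_isIso (p.stalkMap z)).1
  rw [hbot, Submodule.bot_smul, Submodule.mem_bot] at h
  exact h

end Groth.Agent.HomFibre
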