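import Groth.Agent.HomVanish.Fibre
import Groth.Agent.QCoh.TensorUnit
import Groth.Agent.QCoh.Sections
import Groth.Agent.KFlatLib.Scheme.Pullback

/-!
# Stalks of reductions of a module modulo ideals of the base
-/

set_option linter.style.haveILetI false
set_option linter.unusedSectionVars false
set_option backward.isDefEq.respectTransparency false
set_option backward.isDefEq.respectTransparency.types false

universe u

open CategoryTheory CategoryTheory.Limits AlgebraicGeometry IsLocalRing

noncomputable section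

namespace Groth.Agent.HomFibre

open Groth.Agent

section Ring

variable {R S : Type u} [CommRing R] [CommRing S] (ψ : R →+* S) {M N : ModuleCat.{u} R}

/-- A map killed by extension of scalars along a surjection has image in `ker • N`. -/
lemma mem_ker_smul_of_extendScalars_eq_zero (hψ : Function.Surjective ψ) (φ : M ⟶ N)
    (h : (ModuleCat.extendScalars ψ).map φ = 0) (a : M) :
    φ a ∈ RingHom.ker ψ • (⊤ : Submodule R N) := by
  set m := RingHom.ker ψ
  let σ : S →+* R ⧸ m := ψ.liftOfSurjective hψ ⟨Ideal.Quotient.mk m, by rw [Ideal.mk_ker]⟩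
  have hσ : ∀ r, σ (ψ r) = Ideal.Quotient.mk m r := fun r =>
    ψ.liftOfRightInverse_comp_apply _ _ _ r
  letI : Module S (N ⧸ m • (⊤ : Submodule R N)) := Module.compHom _ σ
  let T : ModuleCat.{u} S := ModuleCat.of S (N ⧸ m • (⊤ : Submodule R N))
  let q : N ⟶ (ModuleCat.restrictScalars ψ).obj T := ModuleCat.ofHom
    (Y := (ModuleCat.restrictScalars ψ).obj T)
    { toFun := fun n => (Submodule.Quotient.mk n : N ⧸ m • (⊤ : Submodule R N))
      map_add' := fun _ _ => rfl
      map_smul' := fun r n => by
        show (Submodule.Quotient.mk (r • n) : N ⧸ m • (⊤ : Submodule R N)) = σ (ψ r) • Submodule.Quotient.mk n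
        rw [hσ]
        rfl }
  let adj := ModuleCat.extendRestrictScalarsAdj.{u, u, u} ψ
  have h1 : φ ≫ q = 0 := by
    apply (adj.homEquiv M T).symm.injective
    rw [adj.homEquiv_naturality_left_symm, h, zero_comp]
    symm
    rw [Equiv.symm_apply_eq, adj.homEquiv_unit, Functor.map_zero, comp_zero]
  exact (Submodule.Quotient.mk_eq_zero _).1 (LinearMap.congr_fun (congrArg ModuleCat.Hom.hom h1) a)

/-- Extension of scalars inverts a surjection with kernel in `ker • M`. -/
lemma isIso_extendScalars_map (φ : M ⟶ N) [Epi φ]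
    (h : ∀ a, φ a = 0 → a ∈ RingHom.ker ψ • (⊤ : Submodule R M)) :
    IsIso ((ModuleCat.extendScalars ψ).map φ) := by
  let G := ModuleCat.extendScalars.{u, u, u} ψ
  let adj := ModuleCat.extendRestrictScalarsAdj.{u, u, u} ψ
  haveI : G.IsLeftAdjoint := ⟨_, ⟨adj⟩⟩
  haveI : PreservesFiniteColimits G := inferInstance
  let S₀ : ShortComplex (ModuleCat.{u} R) := ShortComplex.mk (kernel.ι φ) φ (kernel.condition φ)
  have hS₀ : S₀.Exact := ShortComplex.exact_kernel φ
  haveI : Epi S₀.g := inferInstanceAs (Epi φ)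
  have hz : G.map (kernel.ι φ) = 0 := by
    apply (adj.homEquiv _ _).injective
    rw [adj.homEquiv_unit, adj.homEquiv_unit, Functor.map_zero, comp_zero]
    show adj.unit.app _ ≫ (ModuleCat.restrictScalars ψ).map ((ModuleCat.extendScalars ψ).map (kernel.ι φ)) = 0
    refine (adj.unit_naturality (kernel.ι φ)).trans ?_
    refine ModuleCat.hom_ext (LinearMap.ext fun v => ?_)
    have hv : kernel.ι φ v ∈ RingHom.ker ψ • (⊤ : Submodule R M) :=
      h _ (LinearMap.congr_fun (congrArg ModuleCat.Hom.hom (kernel.condition φ)) v)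
    show (adj.unit.app M) (kernel.ι φ v) = 0
    generalize kernel.ι φ v = u at hv ⊢
    induction hv using Submodule.smul_induction_on' with
    | smul r hr m _ =>
      rw [map_smul]
      let z : (ModuleCat.extendScalars ψ).obj M := adj.unit.app M m
      show ψ r • z = 0
      rw [RingHom.mem_ker.1 hr, zero_smul]
    | add a _ b _ ha hb => rw [map_add, ha, hb, add_zero]
  have h1 : (S₀.map G).Exact := hS₀.map_of_epi_of_preservesCokernel G inferInstance inferInstance
  haveI : Mono (G.map φ) := (ShortComplex.exact_iff_mono (S₀.map G) hz).1 h1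
  haveI : Epi (G.map φ) := inferInstance
  exact isIso_of_mono_of_epi _

end Ring

theorem stalk_smulModΓ {X : Scheme.{u}} (M : X.Modules) (r : Γ(X, ⊤)) (x : X)
    (v : (DerSch.stalkFunctor X x).obj M) :
    (DerSch.stalkFunctor X x).map (Formal.smulModΓ M r) v = X.presheaf.germ ⊤ x trivial r • v := by
  obtain ⟨V, hV, s, rfl⟩ := TopCat.Presheaf.exists_germ_eq M.presheaf v
  refine (DerSch.stalkFunctor_map_germ x _ V hV s).trans ?_
  refine (congrArg (M.presheaf.germ V x hV) (show (Formal.smulModΓ M r).app V s =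
    X.presheaf.map (homOfLE (le_top (a := V))).op r • s from rfl)).trans ?_
  rw [QCoh.germ_smul' M hV]
  exact congrArg (fun c => c • M.presheaf.germ V x hV s)
    (X.presheaf.germ_res_apply (homOfLE (le_top (a := V))) x hV _)

variable {A : Type u} [CommRing A] {X : Scheme.{u}} [X.Over (Spec (CommRingCat.of A))]

local notation "π" => (X ↘ Spec (CommRingCat.of A))

/-- The scalars of the base in the local ring. -/
def θ (y : X) : A →+* X.presheaf.stalk y := (X.presheaf.germ ⊤ y trivial).hom.comp (Coh.toGlobal π)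

/-- The scalars of the base in the local ring of the base. -/
def η (s : Spec (CommRingCat.of A)) : A →+* (Spec (CommRingCat.of A)).presheaf.stalk s :=
  ((Spec (CommRingCat.of A)).presheaf.germ ⊤ s trivial).hom.comp (Scheme.ΓSpecIso (CommRingCat.of A)).inv.hom

lemma θ_eq (y : X) : (θ y : A →+* _) = (Scheme.Hom.stalkMap π y).hom.comp (η (π y)) := by
  refine RingHom.ext fun a => ?_
  exact (Scheme.Hom.germ_stalkMap_apply π ⊤ y trivial ((Scheme.ΓSpecIso (CommRingCat.of A)).inv a)).symm

lemma η_eq_toStalk (s : Spec (CommRingCat.of A)) :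
    η s = (StructureSheaf.toStalk A s).hom := by
  refine RingHom.ext fun a => ?_
  rfl

lemma map_η (s : Spec (CommRingCat.of A)) :
    Ideal.map (η s) s.asIdeal = maximalIdeal ((Spec (CommRingCat.of A)).presheaf.stalk s) := by
  letI : Algebra A ((Spec (CommRingCat.of A)).presheaf.stalk s) := StructureSheaf.stalkAlgebra A s
  haveI : IsLocalization.AtPrime ((Spec (CommRingCat.of A)).presheaf.stalk s) s.asIdeal :=
    StructureSheaf.IsLocalization.to_stalk (CommRingCat.of A) s
  rw [η_eq_toStalk]
  exact IsLocalization.AtPrime.map_eq_maximalIdeal s.asIdeal _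

lemma map_θ (y : X) :
    Ideal.map (θ y) (π y).asIdeal = (maximalIdeal _).map (Scheme.Hom.stalkMap π y).hom := by
  rw [θ_eq, ← Ideal.map_map, map_η]

lemma map_maximalIdeal_le' {R S : Type u} [CommRing R] [IsLocalRing R] [CommRing S] [IsLocalRing S]
    (f : R →+* S) [IsLocalHom f] : (maximalIdeal R).map f ≤ maximalIdeal S :=
  Ideal.map_le_iff_le_comap.2 fun _ ha hu => ha (isUnit_of_map_unit f _ hu)

lemma map_θ_le (y : X) : Ideal.map (θ y) (π y).asIdeal ≤ maximalIdeal (X.presheaf.stalk y) :=
  (map_θ y).le.trans (map_maximalIdeal_le' (Scheme.Hom.stalkMap π y).hom)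

lemma isUnit_θ (y : X) {a : A} (ha : a ∉ (π y).asIdeal) : IsUnit (θ y a) := by
  letI : Algebra A ((Spec (CommRingCat.of A)).presheaf.stalk (π y)) := StructureSheaf.stalkAlgebra A (π y)
  haveI : IsLocalization.AtPrime ((Spec (CommRingCat.of A)).presheaf.stalk (π y)) (π y).asIdeal :=
    StructureSheaf.IsLocalization.to_stalk (CommRingCat.of A) (π y)
  rw [θ_eq, RingHom.comp_apply, η_eq_toStalk]
  exact (IsLocalization.map_units ((Spec (CommRingCat.of A)).presheaf.stalk (π y))
    (⟨a, ha⟩ : (π y).asIdeal.primeCompl)).map _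

variable {F : X.Modules}

lemma epi_quotHom (hF : Coh.IsQCoh F) (J : Ideal A) : Epi (QCoh.quotHom F J) := by
  haveI := QCoh.isIso_desc_quotHom hF J
  rw [← cokernel.π_desc (Formal.smulFamily J F) (QCoh.quotHom F J) (QCoh.smulFamily_quotHom F J)]
  exact epi_comp _ _

/-- The kernel of the reduction on stalks. -/
lemma mem_of_quotHom_eq_zero (hF : Coh.IsQCoh F) (J : Ideal A) (y : X) (v : (DerSch.stalkFunctor X y).obj F)
    (hv : (DerSch.stalkFunctor X y).map (QCoh.quotHom F J) v = 0) :
    v ∈ Ideal.map (θ y) J • (⊤ : Submodule (X.presheaf.stalk y) ((DerSch.stalkFunctor X y).obj F)) := by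
  classical
  haveI := QCoh.isIso_desc_quotHom hF J
  set N := Ideal.map (θ y) J • (⊤ : Submodule (X.presheaf.stalk y) ((DerSch.stalkFunctor X y).obj F))
  let st := DerSch.stalkFunctor X y
  let S₀ : ShortComplex X.Modules := ShortComplex.mk (Formal.smulFamily J F)
    (cokernel.π (Formal.smulFamily J F)) (cokernel.condition _)
  have hS₀ : S₀.Exact := ShortComplex.exact_of_g_is_cokernel _ (cokernelIsCokernel _)
  haveI : Epi S₀.g := inferInstanceAs (Epi (cokernel.π _))
  have h1 : (S₀.map st).Exact := hS₀.map_of_epi_of_preservesCokernel st inferInstance inferInstance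
  rw [← cokernel.π_desc (Formal.smulFamily J F) (QCoh.quotHom F J) (QCoh.smulFamily_quotHom F J),
    Functor.map_comp, ModuleCat.comp_apply] at hv
  have hv' : st.map (cokernel.π (Formal.smulFamily J F)) v = 0 :=
    (ConcreteCategory.bijective_of_isIso (st.map (cokernel.desc (Formal.smulFamily J F) (QCoh.quotHom F J)
      (QCoh.smulFamily_quotHom F J)))).1 (hv.trans (map_zero _).symm)
  obtain ⟨w, rfl⟩ := (ShortComplex.moduleCat_exact_iff _).1 h1 v hv'
  have hz : st.map (Formal.smulFamily J F) ≫ ModuleCat.ofHom N.mkQ = 0 := by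
    rw [← cancel_epi (PreservesCoproduct.iso st (fun _ : J => F)).inv]
    refine Sigma.hom_ext _ _ fun a => ?_
    simp only [PreservesCoproduct.inv_hom, ι_comp_sigmaComparison_assoc, comp_zero]
    rw [← Category.assoc, ← Functor.map_comp, Formal.smulFamily, Sigma.ι_desc]
    refine ModuleCat.hom_ext (LinearMap.ext fun u => ?_)
    show N.mkQ (st.map (Formal.smulMod A F (a : A)) u) = 0
    rw [Submodule.mkQ_apply, Submodule.Quotient.mk_eq_zero, Formal.smulMod, stalk_smulModΓ]
    exact Submodule.smul_mem_smul (Ideal.mem_map_of_mem (θ y) a.2) trivial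
  exact (Submodule.Quotient.mk_eq_zero _).1 (LinearMap.congr_fun (congrArg ModuleCat.Hom.hom hz) w)

/-- The ideal kills the reduction. -/
lemma smul_stalk_quot_eq_zero (hF : Coh.IsQCoh F) {J : Ideal A} {a : A} (ha : a ∈ J) (y : X)
    (v : (DerSch.stalkFunctor X y).obj ((CohIII.tensorAFunctor A F).obj (ModuleCat.of A (A ⧸ J)))) :
    θ y a • v = 0 := by
  haveI := epi_quotHom hF J
  obtain ⟨w, rfl⟩ := (ModuleCat.epi_iff_surjective ((DerSch.stalkFunctor X y).map (QCoh.quotHom F J))).1 inferInstance v
  have h1 : Formal.smulMod A F a ≫ QCoh.quotHom F J = 0 := by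
    have h := congrArg (Sigma.ι (fun _ : J => F) ⟨a, ha⟩ ≫ ·) (QCoh.smulFamily_quotHom F J)
    simp only [Formal.smulFamily, Sigma.ι_desc_assoc, comp_zero] at h
    exact h
  refine (((DerSch.stalkFunctor X y).map (QCoh.quotHom F J)).hom.map_smul _ _).symm.trans ?_
  have h2 := congrArg (fun g => ((DerSch.stalkFunctor X y).map g) w) h1
  simp only [Functor.map_comp, ModuleCat.comp_apply, Functor.map_zero] at h2
  rw [Formal.smulMod, stalk_smulModΓ] at h2
  exact h2

lemma eq_zero_of_mem_smul (hF : Coh.IsQCoh F) {J : Ideal A} (y : X)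
    (v : (DerSch.stalkFunctor X y).obj ((CohIII.tensorAFunctor A F).obj (ModuleCat.of A (A ⧸ J))))
    (hv : v ∈ Ideal.map (θ y) J • (⊤ : Submodule (X.presheaf.stalk y) _)) : v = 0 := by
  have : Ideal.map (θ y) J ≤ (⊤ : Submodule (X.presheaf.stalk y)
      ((DerSch.stalkFunctor X y).obj ((CohIII.tensorAFunctor A F).obj (ModuleCat.of A (A ⧸ J))))).annihilator :=
    Ideal.map_le_iff_le_comap.2 fun a ha => Submodule.mem_annihilator.2 fun w _ => smul_stalk_quot_eq_zero hF ha y w
  induction hv using Submodule.smul_induction_on' with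
  | smul r hr m _ => exact Submodule.mem_annihilator.1 (this hr) m trivial
  | add a _ b _ ha hb => rw [ha, hb, add_zero]

end Groth.Agent.HomFibre
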